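import Cfsg.Agent.H181.OctUnit
import Cfsg.Agent.H181.OctOrd
import Cfsg.Agent.H721.SR.Base

/-!
# A non-real element of `G₂(q)`, `q` prime to 3 (helper473, S4971 / S4970)

`x = ω g`, `g` a regular unipotent element of the special unitary group over `F[ω]`, acting on the octonions. An
automorphism `f` inverting `x` induces `v ↦ A v̄` on the orthogonal space of `F[ω]`, `κ̄ det A = κ`, `g A = A gᵀ`, and
the parameter of `g` is a cube.
-/

set_option autoImplicit false

namespace Cfsg.Agent.H473.SR

open Cfsg.Lie QuadraticAlgebra Matrix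
open Cfsg.Agent.H181.OctHerm

variable {F : Type*} [Field F]

/-- the orthogonal space of `F[ω]` -/
def emb (v : Fin 3 → LL F) : AA F := (0, v 0, v 1, v 2)

theorem emb_inj {v w : Fin 3 → LL F} (h : emb v = emb w) : v = w := by
  simp only [emb, Prod.mk.injEq, true_and] at h
  obtain ⟨h0, h1, h2⟩ := h
  funext i
  fin_cases i <;> assumption

theorem act_emb (M : Matrix (Fin 3) (Fin 3) (LL F)) (v : Fin 3 → LL F) : act M (emb v) = emb (M *ᵥ v) := by
  simp only [act, emb, Matrix.mulVec, dotProduct, Fin.sum_univ_three]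

/-- scaling -/
def sO (l : LL F) (z : AA F) : AA F := (z.1, l * z.2.1, l * z.2.2.1, l * z.2.2.2)

theorem act_smul_one (l : LL F) (z : AA F) : act (l • (1 : Matrix (Fin 3) (Fin 3) (LL F))) z = sO l z := by
  simp [act, sO]

theorem eq_zero_of_three (h3 : (3 : F) ≠ 0) {a : LL F} (h : 3 * a = 0) : a = 0 := by
  have h1 : a + a + a = 0 := by linear_combination h
  have h2 := congrArg QuadraticAlgebra.re h1
  have h4 := congrArg QuadraticAlgebra.im h1
  simp only [re_add, im_add, re_zero, im_zero] at h2 h4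
  ext
  · rw [re_zero]
    exact (mul_eq_zero.1 (show (3 : F) * a.re = 0 by linear_combination h2)).resolve_left h3
  · rw [im_zero]
    exact (mul_eq_zero.1 (show (3 : F) * a.im = 0 by linear_combination h4)).resolve_left h3

theorem fst_of_sum (h3 : (3 : F) ≠ 0) {l : LL F} {z : AA F} (h : z + sO l z + sO l (sO l z) = 0) : z.1 = 0 := by
  have h1 := congrArg Prod.fst h
  simp only [sO, Prod.fst_add, Prod.fst_zero] at h1
  exact eq_zero_of_three h3 (by linear_combination h1)

section

variable (h3 : (3 : F) ≠ 0) {κ : LL F} {f : AA F ≃ₗ[F] AA F} (hf : ∀ x y, f (hm κ x y) = hm κ (f x) (f y))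
  (hs : ∀ z, f (sO om z) = sO (star om) (f z))

include hs in
theorem symm_sO (z : AA F) : f.symm (sO (star om) z) = sO om (f.symm z) := by
  rw [LinearEquiv.symm_apply_eq, hs, LinearEquiv.apply_symm_apply]

theorem sum_om (v : Fin 3 → LL F) : emb v + sO om (emb v) + sO om (sO om (emb v)) = 0 := by
  have h := om_sq (F := F)
  refine Prod.ext ?_ (Prod.ext ?_ (Prod.ext ?_ ?_)) <;>
    simp only [emb, sO, Prod.fst_add, Prod.snd_add, Prod.fst_zero, Prod.snd_zero, add_zero]
  · linear_combination (v 0) * h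
  · linear_combination (v 1) * h
  · linear_combination (v 2) * h

theorem star_om_sq : star (om : LL F) * star om = -1 - star om := by
  rw [star_om]
  linear_combination om_sq (F := F)

theorem sum_star_om (v : Fin 3 → LL F) :
    emb v + sO (star om) (emb v) + sO (star om) (sO (star om) (emb v)) = 0 := by
  have h := star_om_sq (F := F)
  refine Prod.ext ?_ (Prod.ext ?_ (Prod.ext ?_ ?_)) <;>
    simp only [emb, sO, Prod.fst_add, Prod.snd_add, Prod.fst_zero, Prod.snd_zero, add_zero]
  · linear_combination (v 0) * h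
  · linear_combination (v 1) * h
  · linear_combination (v 2) * h

theorem eq_emb {z : AA F} (h : z.1 = 0) : ∃ v : Fin 3 → LL F, z = emb v := by
  refine ⟨![z.2.1, z.2.2.1, z.2.2.2], ?_⟩
  refine Prod.ext h (Prod.ext ?_ (Prod.ext ?_ ?_)) <;> simp [emb]

include h3 hs in
theorem exists_emb (v : Fin 3 → LL F) : ∃ w, f (emb v) = emb w := by
  apply eq_emb
  apply fst_of_sum h3 (l := star om)
  have := congrArg f (sum_om v)
  rwa [map_add, map_add, map_zero, hs, hs, hs] at this

include h3 hs in
theorem exists_emb_symm (w : Fin 3 → LL F) : ∃ v, f (emb v) = emb w := by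
  obtain ⟨v, hv⟩ : ∃ v, f.symm (emb w) = emb v := by
    apply eq_emb
    apply fst_of_sum h3 (l := om)
    have := congrArg f.symm (sum_star_om w)
    rwa [map_add, map_add, map_zero, symm_sO hs, symm_sO hs, symm_sO hs] at this
  exact ⟨v, by rw [← hv, LinearEquiv.apply_symm_apply]⟩

/-- the fixed algebra -/
def cst (a : LL F) : AA F := (a, 0, 0, 0)

include h3 hs in
theorem exists_cst (a : LL F) : ∃ b, f (cst a) = cst b := by
  have h1 : sO (om : LL F) (cst a) = cst a := by simp [sO, cst]
  have h2 := hs (cst a)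
  rw [h1] at h2
  have key : ∀ w : LL F, w = star om * w → w = 0 := by
    intro w hw
    apply eq_zero_of_three h3
    rw [star_om] at hw
    linear_combination (1 - om) * hw + w * om_sq (F := F)
  refine ⟨(f (cst a)).1, Prod.ext rfl (Prod.ext ?_ (Prod.ext ?_ ?_))⟩
  · exact key _ (congrArg (fun z : AA F => z.2.1) h2)
  · exact key _ (congrArg (fun z : AA F => z.2.2.1) h2)
  · exact key _ (congrArg (fun z : AA F => z.2.2.2) h2)

theorem hm_cst_emb (κ a : LL F) (v : Fin 3 → LL F) : hm κ (cst a) (emb v) = emb (a • v) := by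
  simp [hm, cst, emb]

include h3 hf hs in
theorem f_cst (a : LL F) : f (cst a) = cst (star a) := by
  obtain ⟨v, hv⟩ := exists_emb_symm h3 hs ![1, 0, 0]
  have key : ∀ a : LL F, ∀ b, f (cst a) = cst b → f (emb (a • v)) = emb (b • ![1, 0, 0]) := by
    intro a b h
    rw [← hm_cst_emb κ, hf, h, hv, hm_cst_emb]
  have e1 : f (cst 1) = cst (1 : LL F) := by
    obtain ⟨b, hb⟩ := exists_cst h3 hs 1
    have h1 := key 1 b hb
    rw [one_smul, hv] at h1
    have h2 := congrFun (emb_inj h1) 0
    simp at h2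
    rw [hb, ← h2]
  have e2 : f (cst om) = cst (star (om : LL F)) := by
    obtain ⟨b, hb⟩ := exists_cst h3 hs om
    have h1 := key om b hb
    have h4 : (emb ((om : LL F) • v) : AA F) = sO om (emb v) := by simp [emb, sO]
    rw [h4, hs, hv] at h1
    have h2 := congrArg (fun z : AA F => z.2.1) h1
    simp [emb, sO] at h2
    rw [hb, h2]
  have e3 : cst a = a.re • cst (1 : LL F) + a.im • cst om := by
    refine Prod.ext ?_ (Prod.ext ?_ (Prod.ext ?_ ?_)) <;> simp [cst]
    ext <;> simp [om]
  rw [e3, map_add, map_smul, map_smul, e1, e2]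
  refine Prod.ext ?_ (Prod.ext ?_ (Prod.ext ?_ ?_)) <;> simp [cst]
  ext <;> simp [om]

include h3 hf hs in
/-- the matrix of an automorphism inverting `ω` -/
theorem exists_matrix : ∃ A : Matrix (Fin 3) (Fin 3) (LL F), (∀ v, f (emb v) = emb (A *ᵥ star v)) ∧
    star κ * A.det = κ := by
  choose g hg using exists_emb h3 hs
  let A : Matrix (Fin 3) (Fin 3) (LL F) := Matrix.of fun i j => g (Pi.single j 1) i
  have hsm : ∀ (a : LL F) v, f (emb (a • v)) = emb (star a • g v) := by
    intro a v
    rw [← hm_cst_emb κ, hf, f_cst h3 hf hs, hg, hm_cst_emb]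
  have hadd : ∀ v w : Fin 3 → LL F, (emb (v + w) : AA F) = emb v + emb w := by
    intro v w
    simp [emb]
  have hA : ∀ v, f (emb v) = emb (A *ᵥ star v) := by
    intro v
    have e : v = v 0 • Pi.single 0 1 + v 1 • Pi.single 1 1 + v 2 • Pi.single 2 1 := by
      funext i
      fin_cases i <;> simp
    conv_lhs => rw [e]
    rw [hadd, hadd, map_add, map_add, hsm, hsm, hsm, ← hadd, ← hadd]
    congr 1
    funext i
    simp only [A, Matrix.mulVec, dotProduct, Fin.sum_univ_three, Matrix.of_apply, Pi.add_apply, Pi.smul_apply,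
      smul_eq_mul, Pi.star_apply]
    ring
  refine ⟨A, hA, ?_⟩
  -- products
  have p1 : hm κ (emb (Pi.single 0 1)) (emb (Pi.single 1 1)) = emb (κ • Pi.single 2 1) := by
    simp [hm, emb]
  have p2 : hm κ (emb (Pi.single 2 1)) (emb (Pi.single 2 1)) = cst (1 : LL F) := by
    simp [hm, emb, cst]
  have hcol : ∀ j, A *ᵥ star (Pi.single j 1) = fun i => A i j := by
    intro j
    funext i
    fin_cases j <;> simp [Matrix.mulVec, dotProduct, Fin.sum_univ_three]
  have hgA : g (Pi.single 2 1) = fun i => A i 2 := rfl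
  have q1 := congrArg f p1
  rw [hf, hA, hA, hsm, hcol, hcol, hgA] at q1
  have q2 := congrArg f p2
  rw [hf, hA, hcol, f_cst h3 hf hs] at q2
  simp only [hm, emb, cst, Prod.mk.injEq, mul_zero, zero_mul, zero_add, star_zero, Pi.smul_apply, smul_eq_mul,
    star_one] at q1 q2
  obtain ⟨-, r0, r1, r2⟩ := q1
  obtain ⟨r3, -⟩ := q2
  have s0 := congrArg star r0
  have s1 := congrArg star r1
  have s2 := congrArg star r2
  simp only [star_mul', star_star] at s0 s1 s2
  rw [Matrix.det_fin_three]
  linear_combination A 0 2 * s0 + A 1 2 * s1 + A 2 2 * s2 + κ * r3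

end

theorem star_mulVec' (M : Matrix (Fin 3) (Fin 3) (LL F)) (v : Fin 3 → LL F) :
    star (M *ᵥ v) = M.map star *ᵥ star v := by
  funext i
  simp [Matrix.mulVec, dotProduct, Fin.sum_univ_three]

theorem rel_of_inv {f : AA F ≃ₗ[F] AA F} {A M : Matrix (Fin 3) (Fin 3) (LL F)}
    (hA : ∀ v, f (emb v) = emb (A *ᵥ star v)) (hM : ∀ z, act M (f (act M z)) = f z) :
    M * A * M.map star = A := by
  have key : ∀ w, (M * A * M.map star) *ᵥ w = A *ᵥ w := by
    intro w
    have h := hM (emb (star w))
    rw [act_emb, hA, act_emb, hA, star_mulVec', star_star] at h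
    have h1 := emb_inj h
    rw [← h1, Matrix.mulVec_mulVec, Matrix.mulVec_mulVec, mul_assoc]
  ext1 i j
  have := congrFun (key (Pi.single j 1)) i
  simpa using this

/-- the nilpotent matrix -/
def NN (R : Type*) [CommRing R] (k k' w b b' : R) : Matrix (Fin 3) (Fin 3) R :=
  !![w * b * b', w * b * b' * k', -b'; w * b * b' * k, -(w * b * b'), -(b' * k); b, b * k', 0]

section nil

variable {R : Type*} [CommRing R] {k k' w b b' : R}

theorem NN_sq (hk : k * k' = -1) : NN R k k' w b b' ^ 2 =
    !![-(b * b'), -(b * b') * k', 0; -(b * b') * k, b * b', 0; 0, 0, 0] := by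
  rw [pow_two]
  ext i j
  fin_cases i <;> fin_cases j <;> simp [NN, Matrix.mul_apply, Fin.sum_univ_three] <;> grind

theorem NN_cube (hk : k * k' = -1) : NN R k k' w b b' ^ 3 = 0 := by
  rw [pow_succ, NN_sq hk]
  ext i j
  fin_cases i <;> fin_cases j <;> simp [NN, Matrix.mul_apply, Fin.sum_univ_three] <;> grind

theorem det_NN (hk : k * k' = -1) : (1 + NN R k k' w b b').det = 1 := by
  rw [Matrix.det_fin_three]
  simp [NN]
  grind

/-- unitarity -/
theorem NN_unit (hk : k * k' = -1) {w' : R} (hw : w + w' = -1) :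
    !![1 + w' * b * b', w' * b * b' * k', b'; w' * b * b' * k, 1 - w' * b * b', b' * k; -b, -(b * k'), 1] *
      (1 + NN R k k' w b b') = 1 := by
  ext i j
  fin_cases i <;> fin_cases j <;> simp [NN, Matrix.mul_apply, Fin.sum_univ_three] <;> grind

theorem det_hankel (x y z : R) : (!![x, y, z; y, z, 0; z, 0, 0] : Matrix (Fin 3) (Fin 3) R).det = -z ^ 3 := by
  rw [Matrix.det_fin_three]
  simp
  ring

/-- **The cube.** -/
theorem sq_eq_cube (hk : k * k' = -1) {A : Matrix (Fin 3) (Fin 3) R} (hd : k' * A.det = k)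
    (hNA : NN R k k' w b b' * A = A * (NN R k k' w b b')ᵀ) : ∃ l : R, (b * b' ^ 2) ^ 2 = l ^ 3 := by
  set N := NN R k k' w b b' with hN
  let Q : Matrix (Fin 3) (Fin 3) R :=
    !![1, 0, 0; w * b * b', w * b * b' * k', -b'; -(b * b'), -(b * b') * k', 0]
  have hQ : ∀ i j : Fin 3, Q i j = (N ^ (i : ℕ)) 0 j := by
    intro i j
    fin_cases i
    · fin_cases j <;> simp [Q]
    · fin_cases j <;> simp [Q, hN, NN]
    · change Q 2 j = (N ^ 2) 0 j
      rw [hN, NN_sq hk]
      fin_cases j <;> simp [Q]
  have hpow : ∀ m : ℕ, A * (Nᵀ) ^ m = N ^ m * A := by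
    intro m
    induction m with
    | zero => simp
    | succ m ih => rw [pow_succ, ← mul_assoc, ih, mul_assoc, ← hNA, ← mul_assoc, ← pow_succ]
  have hG : ∀ i j : Fin 3, (Q * A * Qᵀ) i j = (N ^ ((i : ℕ) + (j : ℕ)) * A) 0 0 := by
    intro i j
    have h1 : (Q * A * Qᵀ) i j = (N ^ (i : ℕ) * A * (N ^ (j : ℕ))ᵀ) 0 0 := by
      simp only [Matrix.mul_apply, Matrix.transpose_apply, hQ]
    rw [h1, Matrix.transpose_pow, mul_assoc, hpow, ← mul_assoc, ← pow_add]
  have h3 : N ^ 3 = 0 := NN_cube hk
  have hG' : Q * A * Qᵀ = !![(N ^ 0 * A) 0 0, (N ^ 1 * A) 0 0, (N ^ 2 * A) 0 0;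
      (N ^ 1 * A) 0 0, (N ^ 2 * A) 0 0, 0; (N ^ 2 * A) 0 0, 0, 0] := by
    ext i j
    rw [hG]
    have h4 : N ^ 4 = 0 := by rw [pow_succ, h3, zero_mul]
    fin_cases i <;> fin_cases j <;> simp [h3, h4]
  have h5 := congrArg Matrix.det hG'
  rw [Matrix.det_mul, Matrix.det_mul, Matrix.det_transpose] at h5
  have h6 : Q.det = -(b * b' ^ 2 * k') := by
    rw [Matrix.det_fin_three]
    simp [Q]
    ring
  rw [h6, det_hankel] at h5
  refine ⟨(N ^ 2 * A) 0 0, ?_⟩
  have h7 : A.det = -k ^ 2 := by linear_combination (-k) * hd + A.det * hk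
  rw [h7] at h5
  linear_combination -h5 + (b * b' ^ 2) ^ 2 * (1 - k * k') * hk

end nil

open Cfsg.Agent.H181.OctHerm in
/-- the regular unipotent element -/
def gg (κ b : LL F) : Matrix (Fin 3) (Fin 3) (LL F) := 1 + NN (LL F) κ (star κ) om b (star b)

theorem star_gg (κ b : LL F) : star (gg κ b) =
    !![1 + star om * b * star b, star om * b * star b * star κ, star b;
      star om * b * star b * κ, 1 - star om * b * star b, star b * κ; -b, -(b * star κ), 1] := by
  rw [Matrix.star_eq_conjTranspose]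
  ext1 i j
  rw [Matrix.conjTranspose_apply]
  fin_cases i <;> fin_cases j <;> simp only [gg, NN] <;> simp <;> ring

theorem star_gg_mul {κ : LL F} (hκ : κ * star κ = -1) (b : LL F) : star (gg κ b) * gg κ b = 1 := by
  rw [star_gg]
  exact NN_unit hκ (by rw [star_om]; ring)

/-- an automorphism inverting `ω g` -/
theorem exists_cube (h3 : (3 : F) ≠ 0) {κ : LL F} (hκ : κ * star κ = -1) {b : LL F} {f : AA F ≃ₗ[F] AA F}
    (hf : ∀ x y, f (hm κ x y) = hm κ (f x) (f y)) (hs : ∀ z : AA F, f (sO om z) = sO (star om) (f z))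
    (hM : ∀ z, act ((om : LL F) • gg κ b) (f (act ((om : LL F) • gg κ b) z)) = f z) :
    ∃ l : LL F, (b * star b ^ 2) ^ 2 = l ^ 3 := by
  obtain ⟨A, hA, hd⟩ := exists_matrix h3 hf hs
  have h1 := rel_of_inv hA hM
  have hom : (om : LL F) * star om = 1 := (Unitary.mem_iff.1 om_mem).2
  have h2 : gg κ b * A * (gg κ b).map star = A := by
    have h4 : ((om : LL F) • gg κ b).map star = star (om : LL F) • (gg κ b).map star := by
      ext1 i j
      simp
    rw [h4, Matrix.smul_mul, Matrix.smul_mul, Matrix.mul_smul, smul_smul, hom, one_smul] at h1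
    exact h1
  have h5 : (gg κ b).map star * (gg κ b)ᵀ = 1 := by
    have h6 : gg κ b * star (gg κ b) = 1 := mul_eq_one_comm.1 (star_gg_mul hκ b)
    have h7 := congrArg Matrix.transpose h6
    rw [Matrix.transpose_mul, Matrix.transpose_one] at h7
    exact h7
  have h8 : gg κ b * A = A * (gg κ b)ᵀ := by
    calc gg κ b * A = gg κ b * A * ((gg κ b).map star * (gg κ b)ᵀ) := by rw [h5, mul_one]
      _ = A * (gg κ b)ᵀ := by rw [← mul_assoc, h2]
  have h9 : NN (LL F) κ (star κ) om b (star b) * A = A * (NN (LL F) κ (star κ) om b (star b))ᵀ := by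
    unfold gg at h8
    rw [add_mul, one_mul, Matrix.transpose_add, Matrix.transpose_one, mul_add, mul_one] at h8
    exact add_left_cancel h8
  exact sq_eq_cube hκ hd h9

/-! ### Existence of a parameter -/

/-- a finite ring with a nontrivial cube root of one has an element which is not a cube -/
theorem exists_noncube {R : Type*} [CommRing R] [Finite R] {w : R} (hw : w ^ 3 = 1) (h1 : w ≠ 1) :
    ∃ c : R, ∀ m : R, m ^ 3 ≠ c := by
  by_contra hc
  push Not at hc
  have hi := Finite.injective_iff_surjective.2 (fun c => hc c : Function.Surjective fun m : R => m ^ 3)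
  exact h1 (hi (by simp [hw]))

theorem exists_b [Finite F] (h3 : (3 : F) ≠ 0) : ∃ b : LL F, ¬ ∃ l : LL F, (b * star b ^ 2) ^ 2 = l ^ 3 := by
  by_cases hr : ∃ r : F, r * r = -1 - r
  · obtain ⟨r, hr⟩ := hr
    have hr3 : r ^ 3 = 1 := by linear_combination (r - 1) * hr
    have hr1 : r ≠ 1 := by
      rintro rfl
      apply h3
      linear_combination hr
    obtain ⟨c, hc⟩ := exists_noncube hr3 hr1
    have hc0 : c ≠ 0 := fun h => hc 0 (by rw [h]; ring)
    have h5 : (2 * r + 1) * (2 * r + 1) = -3 := by linear_combination 4 * hr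
    have h6 : 2 * r + 1 ≠ 0 := by
      intro h
      rw [h] at h5
      apply h3
      linear_combination h5
    refine ⟨⟨c - (c - 1) / (2 * r + 1) * r, (c - 1) / (2 * r + 1)⟩, ?_⟩
    rintro ⟨l, hl⟩
    set i := (c - 1) / (2 * r + 1) with hi
    have hi' : i * (2 * r + 1) = c - 1 := div_mul_cancel₀ _ h6
    let φ : LL F → F := fun a => a.re + a.im * r
    have hφ : ∀ a b : LL F, φ (a * b) = φ a * φ b := by
      intro a b
      simp only [φ, re_mul, im_mul]
      linear_combination (-a.im * b.im) * hr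
    have hφ1 : φ ⟨c - i * r, i⟩ = c := by
      simp only [φ]
      ring
    have hφ2 : φ (star ⟨c - i * r, i⟩) = 1 := by
      simp only [φ, re_star, im_star]
      linear_combination -hi'
    have h7 := congrArg φ hl
    rw [pow_two, pow_two, pow_succ, pow_two, hφ, hφ, hφ, hφ, hφ, hφ1, hφ2] at h7
    have h8 : φ l ≠ 0 := by
      intro h
      rw [h] at h7
      apply hc0
      have : c * c = 0 := by linear_combination h7
      simpa using this
    apply hc (c / φ l)
    field_simp
    linear_combination h7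
  · push Not at hr
    have hF : Fact (∀ r : F, r ^ 2 ≠ -1 + -1 * r) := ⟨fun r h => hr r (by linear_combination h)⟩
    have hfin : Finite (LL F) := by
      have : Function.Injective (fun a : LL F => (a.re, a.im)) := by
        intro a b h
        simp only [Prod.mk.injEq] at h
        exact QuadraticAlgebra.ext h.1 h.2
      exact Finite.of_injective _ this
    obtain ⟨y, hy⟩ := exists_noncube (R := LL F) (w := om) (by linear_combination om_cube (F := F)) om_ne_one
    have hy0 : y ≠ 0 := fun h => hy 0 (by rw [h]; ring)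
    have hinj : Function.Injective fun m : F => m ^ 3 := by
      intro a b h
      simp only at h
      by_contra hab
      have h1 : (a - b) * (a ^ 2 + a * b + b ^ 2) = 0 := by linear_combination h
      have h2 := (mul_eq_zero.1 h1).resolve_left (sub_ne_zero.2 hab)
      have hb : b ≠ 0 := by
        rintro rfl
        apply hab
        have : a ^ 2 = 0 := by linear_combination h2
        simpa using this
      apply hr (a / b)
      field_simp
      linear_combination h2
    have hsur := Finite.injective_iff_surjective.1 hinj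
    obtain ⟨m, hm⟩ := hsur (QuadraticAlgebra.norm y)
    refine ⟨star y, ?_⟩
    rintro ⟨l, hl⟩
    rw [star_star] at hl
    have h1 : y * star y = (algebraMap F (LL F) m) ^ 3 := by
      rw [← map_pow]
      simp only at hm
      rw [hm, QuadraticAlgebra.algebraMap_norm_eq_mul_star]
    set M := algebraMap F (LL F) m with hM
    have hs0 : star y ≠ 0 := by
      intro h
      apply hy0
      rw [← star_star y, h, star_zero]
    have hM0 : M ≠ 0 := by
      intro h
      rw [h] at h1
      exact mul_ne_zero hy0 hs0 (by rw [h1]; ring)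
    have h2 : (y * M ^ 3) ^ 2 = l ^ 3 := by rw [← h1, ← hl]; ring
    have hl0 : l ≠ 0 := by
      intro h
      rw [h] at h2
      exact pow_ne_zero 2 (mul_ne_zero hy0 (pow_ne_zero 3 hM0)) (by rw [h2]; ring)
    apply hy (y * M ^ 2 / l)
    field_simp
    linear_combination h2

/-! ### The group -/

/-- the matrix `ω g` in the special unitary group -/
def xx {κ : LL F} (hκ : κ * star κ = -1) (b : LL F) : SU F :=
  ⟨⟨(om : LL F) • gg κ b, by
    rw [Matrix.mem_unitaryGroup_iff']
    have hom : star (om : LL F) * om = 1 := (Unitary.mem_iff.1 om_mem).1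
    have h4 : star ((om : LL F) • gg κ b) = star (om : LL F) • star (gg κ b) := by
      ext1 i j
      simp [Matrix.star_eq_conjTranspose]
    rw [h4, Matrix.smul_mul, Matrix.mul_smul, smul_smul, hom, one_smul, star_gg_mul hκ]⟩, by
    rw [mem_SU]
    change ((om : LL F) • gg κ b).det = 1
    rw [Matrix.det_smul, Fintype.card_fin]
    unfold gg
    rw [det_NN hκ, mul_one]
    linear_combination om_cube (F := F)⟩

theorem xx_pow {κ : LL F} (hκ : κ * star κ = -1) (b : LL F) {p : ℕ} [hp : Fact p.Prime] [hc : CharP F p]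
    (hp3 : p ≠ 3) : ((om : LL F) • gg κ b) ^ (p ^ 2) = (om : LL F) • 1 := by
  have hc' : CharP (LL F) p := charP_of_injective_ringHom (f := algebraMap F (LL F)) (RingHom.injective _) p
  have h1 : gg κ b ^ (p ^ 2) = 1 := by
    unfold gg
    rw [add_pow_expChar_pow_of_commute _ _ (Commute.one_left _), one_pow]
    have h2 : NN (LL F) κ (star κ) om b (star b) ^ (p ^ 2) = 0 :=
      pow_eq_zero_of_le (m := 3) (by have := hp.out.two_le; nlinarith) (NN_cube hκ)
    rw [h2, add_zero]
  rw [smul_pow, h1]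
  congr 1
  have h3 : p ^ 2 % 3 = 1 := by
    have h4 : ¬ 3 ∣ p := fun h => hp3 ((Nat.prime_dvd_prime_iff_eq Nat.prime_three hp.out).1 h).symm
    have h5 : p % 3 = 1 ∨ p % 3 = 2 := by omega
    rcases h5 with h5 | h5 <;> simp [Nat.pow_mod, h5]
  have h6 : (om : LL F) ^ 3 = 1 := by linear_combination om_cube (F := F)
  rw [← Nat.div_add_mod (p ^ 2) 3, h3, pow_add, pow_mul, h6, one_pow, one_mul, pow_one]

/-- **Some element of the automorphism group of the octonions is not real** (characteristic not 3). -/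
theorem nrel_GG [Finite F] (h3 : (3 : F) ≠ 0) {κ : LL F} (hκ : κ * star κ = -1) :
    Cfsg.Agent.H721.SR.NRel ↥(GG κ) := by
  obtain ⟨p, hc⟩ := CharP.exists F
  have hp : Fact p.Prime := ⟨CharP.char_is_prime F p⟩
  have hp3 : p ≠ 3 := by
    rintro rfl
    exact h3 (by have := CharP.cast_eq_zero F 3; exact_mod_cast this)
  obtain ⟨b, hb⟩ := exists_b h3
  refine ⟨rho κ (xx hκ b), fun hcj => hb ?_⟩
  obtain ⟨h, hh⟩ := isConj_iff.1 hcj
  have key : ∀ m : ℕ, (rho κ (xx hκ b)) ^ m * h * (rho κ (xx hκ b)) ^ m = h := by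
    intro m
    have h1 : h * (rho κ (xx hκ b)) ^ m * h⁻¹ = ((rho κ (xx hκ b)) ^ m)⁻¹ := by
      rw [← conj_pow, hh, inv_pow]
    rw [mul_assoc, ← eq_inv_mul_iff_mul_eq, ← h1]
    group
  have hM : ∀ z, act ((om : LL F) • gg κ b) (h.1 (act ((om : LL F) • gg κ b) z)) = h.1 z := by
    intro z
    have h1 := key 1
    rw [pow_one] at h1
    exact congrArg (fun u : GG κ => u.1 z) h1
  have hN : ∀ z, sO om (h.1 (sO om z)) = h.1 z := by
    intro z
    have h1 := key (p ^ 2)
    rw [← map_pow] at h1
    have h2 := congrArg (fun u : GG κ => u.1 z) h1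
    have h4 : ∀ z, (rho κ (xx hκ b ^ p ^ 2) : AA F ≃ₗ[F] AA F) z = sO om z := by
      intro z
      rw [rho_apply, ← act_smul_one]
      congr 1
      exact xx_pow hκ b hp3
    change (rho κ (xx hκ b ^ p ^ 2) : AA F ≃ₗ[F] AA F) (h.1 ((rho κ (xx hκ b ^ p ^ 2) : AA F ≃ₗ[F] AA F) z)) =
      h.1 z at h2
    rw [h4, h4] at h2
    exact h2
  refine exists_cube h3 hκ h.2 (fun z => ?_) hM
  have h1 := congrArg (sO (star om)) (hN z)
  rw [← h1]
  have hom : star (om : LL F) * om = 1 := (Unitary.mem_iff.1 om_mem).1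
  have h2 : ∀ w : LL F, star om * (om * w) = w := fun w => by rw [← mul_assoc, hom, one_mul]
  simp only [sO, h2]

end Cfsg.Agent.H473.SR
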