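import Cfsg.Agent.H610.ChevRegular
import Cfsg.Agent.ChevalleyStructure.XColumns
import Cfsg.Agent.H721.SR.Base

/-!
# A non-real element of `G₂(3^a)` (helper473, S4971 / S4970)

`u = x_a(1) x_b(1) x_{3a+b}(w)`, where `-w` is not of the form `s³ - s`. An element inverting `u` lies in the Borel
subgroup; in characteristic 3 the positive short root vectors span an invariant space, which gives two
homomorphisms of `U` onto Heisenberg groups.
-/

set_option autoImplicit false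

namespace Cfsg.Agent.H473.SR.Three

open Cfsg Cfsg.Lie Cfsg.Agent.ChevalleyStructure.Elts Cfsg.Agent.ChevalleyStructure.RootVec
  Cfsg.Agent.ChevalleyStructure.RootVecTab Cfsg.Agent.ChevalleyStructure.XColumns Cfsg.Agent.H610.ChevRegular
open scoped Matrix

universe u

variable {F : Type u} [Field F]

/-- the action on the positive root vectors -/
def Q4 (M : Matrix chevG2.Idx chevG2.Idx F) (s r z w : F) : Prop :=
  M *ᵥ ev chevG2 F 7 = ev chevG2 F 7 + r • ev chevG2 F 8 + z • ev chevG2 F 9 ∧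
  M *ᵥ ev chevG2 F 8 = ev chevG2 F 8 + s • ev chevG2 F 9 ∧
  M *ᵥ ev chevG2 F 9 = ev chevG2 F 9 ∧
  M *ᵥ ev chevG2 F 11 = ev chevG2 F 11 ∧
  M *ᵥ ev chevG2 F 10 = ev chevG2 F 10 + r • ev chevG2 F 11 ∧
  ∃ p q : F, M *ᵥ ev chevG2 F 6 = ev chevG2 F 6 + s ^ 3 • ev chevG2 F 10 + w • ev chevG2 F 11 +
    p • ev chevG2 F 8 + q • ev chevG2 F 9

theorem Q4.mul [CharP F 3] {M N : Matrix chevG2.Idx chevG2.Idx F} {s r z w s' r' z' w' : F} (hM : Q4 M s r z w)
    (hN : Q4 N s' r' z' w') : Q4 (M * N) (s + s') (r + r') (z + z' + r' * s) (w + w' + s' ^ 3 * r) := by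
  obtain ⟨a1, a2, a3, a4, a5, p, q, a6⟩ := hM
  obtain ⟨b1, b2, b3, b4, b5, p', q', b6⟩ := hN
  have h3 : (s + s') ^ 3 = s ^ 3 + s' ^ 3 := by
    have : (3 : F) = 0 := by exact_mod_cast CharP.cast_eq_zero F 3
    linear_combination (s ^ 2 * s' + s * s' ^ 2) * this
  refine ⟨?_, ?_, ?_, ?_, ?_, p + p', q + q' + p' * s, ?_⟩
  · rw [← Matrix.mulVec_mulVec, b1, Matrix.mulVec_add, Matrix.mulVec_add, Matrix.mulVec_smul, Matrix.mulVec_smul, a1,
      a2, a3]
    module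
  · rw [← Matrix.mulVec_mulVec, b2, Matrix.mulVec_add, Matrix.mulVec_smul, a2, a3]
    module
  · rw [← Matrix.mulVec_mulVec, b3, a3]
  · rw [← Matrix.mulVec_mulVec, b4, a4]
  · rw [← Matrix.mulVec_mulVec, b5, Matrix.mulVec_add, Matrix.mulVec_smul, a4, a5]
    module
  · rw [← Matrix.mulVec_mulVec, b6, Matrix.mulVec_add, Matrix.mulVec_add, Matrix.mulVec_add, Matrix.mulVec_add,
      Matrix.mulVec_smul, Matrix.mulVec_smul, Matrix.mulVec_smul, Matrix.mulVec_smul, a2, a3, a4, a5, a6, h3]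
    module

theorem ev_ne {i j : ℕ} (hi : i < 12) (hij : i ≠ j) :
    ev chevG2 F j (Sum.inr ⟨i, hi⟩) = 0 := by
  rw [ev_inr, if_neg hij]

theorem ev_self {i : ℕ} (hi : i < 12) : ev chevG2 F i (Sum.inr ⟨i, hi⟩) = 1 := by
  rw [ev_inr, if_pos rfl]

theorem Q4.unique {M : Matrix chevG2.Idx chevG2.Idx F} {s r z w s' r' z' w' : F} (hM : Q4 M s r z w)
    (hN : Q4 M s' r' z' w') : s = s' ∧ r = r' ∧ z = z' ∧ w = w' := by
  obtain ⟨a1, a2, a3, a4, a5, p, q, a6⟩ := hM
  obtain ⟨b1, b2, b3, b4, b5, p', q', b6⟩ := hN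
  have e1 := congrFun (a1.symm.trans b1) (Sum.inr ⟨8, by decide⟩)
  have e2 := congrFun (a1.symm.trans b1) (Sum.inr ⟨9, by decide⟩)
  have e3 := congrFun (a2.symm.trans b2) (Sum.inr ⟨9, by decide⟩)
  have e4 := congrFun (a6.symm.trans b6) (Sum.inr ⟨11, by decide⟩)
  simp at e1 e2 e3 e4
  exact ⟨e3, e1, e2, e4⟩

theorem nodup_row {r : ℕ} (hr : r < 12) :
    ((Cfsg.Agent.ChevalleyStructure.XColumns.row chevG2 r).map Prod.fst).Nodup := by
  interval_cases r <;> decide +kernel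

theorem chainEntry_tab : chevG2.chainEntry 6 7 = [(8, 1)] ∧
    chevG2.chainEntry 6 8 = [] ∧
    chevG2.chainEntry 6 9 = [] ∧
    chevG2.chainEntry 6 10 = [(11, 1)] ∧
    chevG2.chainEntry 6 11 = [] ∧
    chevG2.chainEntry 7 6 = [(8, -1), (9, 1), (10, 1)] ∧
    chevG2.chainEntry 7 8 = [(9, -2), (10, -3)] ∧
    chevG2.chainEntry 7 9 = [(10, 3)] ∧
    chevG2.chainEntry 7 10 = [] ∧
    chevG2.chainEntry 7 11 = [] ∧
    chevG2.chainEntry 8 6 = [] ∧
    chevG2.chainEntry 8 7 = [(9, 2), (11, 3)] ∧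
    chevG2.chainEntry 8 9 = [(11, 3)] ∧
    chevG2.chainEntry 8 10 = [] ∧
    chevG2.chainEntry 8 11 = [] ∧
    chevG2.chainEntry 9 6 = [] ∧
    chevG2.chainEntry 9 7 = [(10, -3)] ∧
    chevG2.chainEntry 9 8 = [(11, -3)] ∧
    chevG2.chainEntry 9 10 = [] ∧
    chevG2.chainEntry 9 11 = [] ∧
    chevG2.chainEntry 10 6 = [(11, -1)] ∧
    chevG2.chainEntry 10 7 = [] ∧
    chevG2.chainEntry 10 8 = [] ∧
    chevG2.chainEntry 10 9 = [] ∧
    chevG2.chainEntry 10 11 = [] ∧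
    chevG2.chainEntry 11 6 = [] ∧
    chevG2.chainEntry 11 7 = [] ∧
    chevG2.chainEntry 11 8 = [] ∧
    chevG2.chainEntry 11 9 = [] ∧
    chevG2.chainEntry 11 10 = [] := by
  decide +kernel

/-- the columns -/
theorem col {r s : ℕ} (hr : r < 12) (hs : s < 12) (hsr : s ≠ r) (hsn : s + r ≠ 11) {l : List (ℕ × ℤ)}
    (hl : chevG2.chainEntry r s = l) (t : F) : chevG2.x F r t *ᵥ ev chevG2 F s = ev chevG2 F s +
      (l.zipIdx.map fun q => ((q.1.2 : F) * t ^ (q.2 + 1)) • ev chevG2 F q.1.1).sum := by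
  rw [x_mulVec_ev (D := chevG2) hr hs hsr ?_ (nodup_row hr) t, hl]
  intro h
  have h1 : chevG2.neg r = 11 - r := by
    interval_cases r <;> decide +kernel
  omega

theorem q4_7 [CharP F 3] (t : F) : Q4 (chevG2.x F 7 t) t 0 0 0 := by
  have h3 : (3 : F) = 0 := by exact_mod_cast CharP.cast_eq_zero F 3
  have h2 : (2 : F) = -1 := by linear_combination h3
  obtain ⟨-, -, -, -, -, e7_6, e7_8, e7_9, e7_10, e7_11, -, -, -, -, -, -, -, -, -, -, -, -, -, -, -, -, -, -, -, -⟩ := chainEntry_tab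
  refine ⟨?_, ?_, ?_, ?_, ?_, (-t), (t ^ 2), ?_⟩
  · rw [x_mulVec_ev_self (D := chevG2) (by decide +kernel)]
    simp
  · rw [col (by norm_num) (by norm_num) (by norm_num) (by norm_num) e7_8]
    simp [List.zipIdx_cons, h2, h3]
  · rw [col (by norm_num) (by norm_num) (by norm_num) (by norm_num) e7_9]
    simp [List.zipIdx_cons, h2, h3]
  · rw [col (by norm_num) (by norm_num) (by norm_num) (by norm_num) e7_11]
    simp [List.zipIdx_cons, h2, h3]
  · rw [col (by norm_num) (by norm_num) (by norm_num) (by norm_num) e7_10]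
    simp [List.zipIdx_cons, h2, h3]
  · rw [col (by norm_num) (by norm_num) (by norm_num) (by norm_num) e7_6]
    simp [List.zipIdx_cons, h2, h3]
    module

theorem q4_6 [CharP F 3] (t : F) : Q4 (chevG2.x F 6 t) 0 t 0 0 := by
  have h3 : (3 : F) = 0 := by exact_mod_cast CharP.cast_eq_zero F 3
  have h2 : (2 : F) = -1 := by linear_combination h3
  obtain ⟨e6_7, e6_8, e6_9, e6_10, e6_11, -, -, -, -, -, -, -, -, -, -, -, -, -, -, -, -, -, -, -, -, -, -, -, -, -⟩ := chainEntry_tab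
  refine ⟨?_, ?_, ?_, ?_, ?_, 0, 0, ?_⟩
  · rw [col (by norm_num) (by norm_num) (by norm_num) (by norm_num) e6_7]
    simp [List.zipIdx_cons, h2, h3]
  · rw [col (by norm_num) (by norm_num) (by norm_num) (by norm_num) e6_8]
    simp [List.zipIdx_cons, h2, h3]
  · rw [col (by norm_num) (by norm_num) (by norm_num) (by norm_num) e6_9]
    simp [List.zipIdx_cons, h2, h3]
  · rw [col (by norm_num) (by norm_num) (by norm_num) (by norm_num) e6_11]
    simp [List.zipIdx_cons, h2, h3]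
  · rw [col (by norm_num) (by norm_num) (by norm_num) (by norm_num) e6_10]
    simp [List.zipIdx_cons, h2, h3]
  · rw [x_mulVec_ev_self (D := chevG2) (by decide +kernel)]
    simp

theorem q4_8 [CharP F 3] (t : F) : Q4 (chevG2.x F 8 t) 0 0 (-t) 0 := by
  have h3 : (3 : F) = 0 := by exact_mod_cast CharP.cast_eq_zero F 3
  have h2 : (2 : F) = -1 := by linear_combination h3
  obtain ⟨-, -, -, -, -, -, -, -, -, -, e8_6, e8_7, e8_9, e8_10, e8_11, -, -, -, -, -, -, -, -, -, -, -, -, -, -, -⟩ := chainEntry_tab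
  refine ⟨?_, ?_, ?_, ?_, ?_, 0, 0, ?_⟩
  · rw [col (by norm_num) (by norm_num) (by norm_num) (by norm_num) e8_7]
    simp [List.zipIdx_cons, h2, h3]
  · rw [x_mulVec_ev_self (D := chevG2) (by decide +kernel)]
    simp
  · rw [col (by norm_num) (by norm_num) (by norm_num) (by norm_num) e8_9]
    simp [List.zipIdx_cons, h2, h3]
  · rw [col (by norm_num) (by norm_num) (by norm_num) (by norm_num) e8_11]
    simp [List.zipIdx_cons, h2, h3]
  · rw [col (by norm_num) (by norm_num) (by norm_num) (by norm_num) e8_10]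
    simp [List.zipIdx_cons, h2, h3]
  · rw [col (by norm_num) (by norm_num) (by norm_num) (by norm_num) e8_6]
    simp [List.zipIdx_cons, h2, h3]

theorem q4_9 [CharP F 3] (t : F) : Q4 (chevG2.x F 9 t) 0 0 0 0 := by
  have h3 : (3 : F) = 0 := by exact_mod_cast CharP.cast_eq_zero F 3
  have h2 : (2 : F) = -1 := by linear_combination h3
  obtain ⟨-, -, -, -, -, -, -, -, -, -, -, -, -, -, -, e9_6, e9_7, e9_8, e9_10, e9_11, -, -, -, -, -, -, -, -, -, -⟩ := chainEntry_tab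
  refine ⟨?_, ?_, ?_, ?_, ?_, 0, 0, ?_⟩
  · rw [col (by norm_num) (by norm_num) (by norm_num) (by norm_num) e9_7]
    simp [List.zipIdx_cons, h2, h3]
  · rw [col (by norm_num) (by norm_num) (by norm_num) (by norm_num) e9_8]
    simp [List.zipIdx_cons, h2, h3]
  · exact x_mulVec_ev_self (D := chevG2) (by decide +kernel) t
  · rw [col (by norm_num) (by norm_num) (by norm_num) (by norm_num) e9_11]
    simp [List.zipIdx_cons, h2, h3]
  · rw [col (by norm_num) (by norm_num) (by norm_num) (by norm_num) e9_10]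
    simp [List.zipIdx_cons, h2, h3]
  · rw [col (by norm_num) (by norm_num) (by norm_num) (by norm_num) e9_6]
    simp [List.zipIdx_cons, h2, h3]

theorem q4_10 [CharP F 3] (t : F) : Q4 (chevG2.x F 10 t) 0 0 0 (-t) := by
  have h3 : (3 : F) = 0 := by exact_mod_cast CharP.cast_eq_zero F 3
  have h2 : (2 : F) = -1 := by linear_combination h3
  obtain ⟨-, -, -, -, -, -, -, -, -, -, -, -, -, -, -, -, -, -, -, -, e10_6, e10_7, e10_8, e10_9, e10_11, -, -, -, -, -⟩ := chainEntry_tab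
  refine ⟨?_, ?_, ?_, ?_, ?_, 0, 0, ?_⟩
  · rw [col (by norm_num) (by norm_num) (by norm_num) (by norm_num) e10_7]
    simp [List.zipIdx_cons, h2, h3]
  · rw [col (by norm_num) (by norm_num) (by norm_num) (by norm_num) e10_8]
    simp [List.zipIdx_cons, h2, h3]
  · rw [col (by norm_num) (by norm_num) (by norm_num) (by norm_num) e10_9]
    simp [List.zipIdx_cons, h2, h3]
  · rw [col (by norm_num) (by norm_num) (by norm_num) (by norm_num) e10_11]
    simp [List.zipIdx_cons, h2, h3]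
  · rw [x_mulVec_ev_self (D := chevG2) (by decide +kernel)]
    simp
  · rw [col (by norm_num) (by norm_num) (by norm_num) (by norm_num) e10_6]
    simp [List.zipIdx_cons, h2, h3]

theorem q4_11 [CharP F 3] (t : F) : Q4 (chevG2.x F 11 t) 0 0 0 0 := by
  have h3 : (3 : F) = 0 := by exact_mod_cast CharP.cast_eq_zero F 3
  have h2 : (2 : F) = -1 := by linear_combination h3
  obtain ⟨-, -, -, -, -, -, -, -, -, -, -, -, -, -, -, -, -, -, -, -, -, -, -, -, -, e11_6, e11_7, e11_8, e11_9, e11_10⟩ := chainEntry_tab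
  refine ⟨?_, ?_, ?_, ?_, ?_, 0, 0, ?_⟩
  · rw [col (by norm_num) (by norm_num) (by norm_num) (by norm_num) e11_7]
    simp [List.zipIdx_cons, h2, h3]
  · rw [col (by norm_num) (by norm_num) (by norm_num) (by norm_num) e11_8]
    simp [List.zipIdx_cons, h2, h3]
  · rw [col (by norm_num) (by norm_num) (by norm_num) (by norm_num) e11_9]
    simp [List.zipIdx_cons, h2, h3]
  · exact x_mulVec_ev_self (D := chevG2) (by decide +kernel) t
  · rw [col (by norm_num) (by norm_num) (by norm_num) (by norm_num) e11_10]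
    simp [List.zipIdx_cons, h2, h3]
  · rw [col (by norm_num) (by norm_num) (by norm_num) (by norm_num) e11_6]
    simp [List.zipIdx_cons, h2, h3]

theorem q4_one : Q4 (1 : Matrix chevG2.Idx chevG2.Idx F) 0 0 0 0 := by
  refine ⟨?_, ?_, ?_, ?_, ?_, 0, 0, ?_⟩ <;> simp

theorem Q4.inv [CharP F 3] {M N : Matrix chevG2.Idx chevG2.Idx F} {s r z w : F} (hM : Q4 M s r z w) (hNM : N * M = 1) :
    Q4 N (-s) (-r) (r * s - z) (s ^ 3 * r - w) := by
  obtain ⟨a1, a2, a3, a4, a5, p, q, a6⟩ := hM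
  have key : ∀ x, N *ᵥ (M *ᵥ x) = x := fun x => by rw [Matrix.mulVec_mulVec, hNM, Matrix.one_mulVec]
  have b3 : N *ᵥ ev chevG2 F 9 = ev chevG2 F 9 := by
    have := key (ev chevG2 F 9)
    rwa [a3] at this
  have b4 : N *ᵥ ev chevG2 F 11 = ev chevG2 F 11 := by
    have := key (ev chevG2 F 11)
    rwa [a4] at this
  have b5 : N *ᵥ ev chevG2 F 10 = ev chevG2 F 10 + (-r) • ev chevG2 F 11 := by
    have := key (ev chevG2 F 10)
    rw [a5, Matrix.mulVec_add, Matrix.mulVec_smul, b4] at this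
    rw [eq_sub_of_add_eq this]
    module
  have b2 : N *ᵥ ev chevG2 F 8 = ev chevG2 F 8 + (-s) • ev chevG2 F 9 := by
    have := key (ev chevG2 F 8)
    rw [a2, Matrix.mulVec_add, Matrix.mulVec_smul, b3] at this
    rw [eq_sub_of_add_eq this]
    module
  refine ⟨?_, b2, b3, b4, b5, -p, p * s - q, ?_⟩
  · have := key (ev chevG2 F 7)
    rw [a1, Matrix.mulVec_add, Matrix.mulVec_add, Matrix.mulVec_smul, Matrix.mulVec_smul, b3, b2] at this
    rw [eq_sub_of_add_eq (eq_sub_of_add_eq this)]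
    module
  · have := key (ev chevG2 F 6)
    rw [a6, Matrix.mulVec_add, Matrix.mulVec_add, Matrix.mulVec_add, Matrix.mulVec_add, Matrix.mulVec_smul,
      Matrix.mulVec_smul, Matrix.mulVec_smul, Matrix.mulVec_smul, b3, b2, b4, b5] at this
    rw [eq_sub_of_add_eq (eq_sub_of_add_eq (eq_sub_of_add_eq (eq_sub_of_add_eq this)))]
    module

/-- the elements of `U` -/
theorem exists_q4 [CharP F 3] {v : GL chevG2.Idx F} (hv : v ∈ chevG2.posUnipotent F) :
    ∃ s r z w, Q4 (v : Matrix chevG2.Idx chevG2.Idx F) s r z w := by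
  refine Subgroup.closure_induction (p := fun (v : GL chevG2.Idx F) _ =>
    ∃ s r z w, Q4 (v : Matrix chevG2.Idx chevG2.Idx F) s r z w) ?_ ⟨0, 0, 0, 0, q4_one⟩ ?_ ?_ hv
  · rintro g ⟨r, t, hr, hg⟩
    rw [hg]
    have h6 : 6 ≤ r ∧ r < 12 := by
      have h1 : r < 12 := hr.1
      refine ⟨?_, h1⟩
      by_contra h
      have h2 : ∀ r < 6, ¬ chevG2.IsPosRoot r := by
        intro r hr
        interval_cases r <;> decide +kernel
      exact h2 r (by omega) hr
    obtain ⟨h1, h2⟩ := h6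
    interval_cases r
    · exact ⟨_, _, _, _, q4_6 t⟩
    · exact ⟨_, _, _, _, q4_7 t⟩
    · exact ⟨_, _, _, _, q4_8 t⟩
    · exact ⟨_, _, _, _, q4_9 t⟩
    · exact ⟨_, _, _, _, q4_10 t⟩
    · exact ⟨_, _, _, _, q4_11 t⟩
  · rintro x y _ _ ⟨s, r, z, w, h⟩ ⟨s', r', z', w', h'⟩
    exact ⟨_, _, _, _, h.mul h'⟩
  · rintro x _ ⟨s, r, z, w, h⟩
    exact ⟨_, _, _, _, h.inv (by rw [← Units.val_mul, inv_mul_cancel, Units.val_one])⟩

/-- an element inverting a regular unipotent element lies in the Borel subgroup -/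
theorem mem_borel_of_inv {D : ChevalleyDatum} (hD : InList D) {y : GL D.Idx F} (hy : Reg hD y) {g : GL D.Idx F}
    (hg : g ∈ D.group F) (hgy : g * y * g⁻¹ = y⁻¹) : g ∈ D.borelSubgroup F := by
  obtain ⟨P, hPB, hPN, hPS⟩ := Cfsg.Agent.S1042.result (F := F) D hD
  have hyG : y ∈ D.group F := posUnipotent_le_group hD F hy.1
  have hyB : (⟨y, hyG⟩ : D.group F) ∈ P.B := by
    rw [hPB, Subgroup.mem_subgroupOf]
    exact Subgroup.mem_sup_left hy.1
  by_contra hgB
  have hgB' : (⟨g, hg⟩ : D.group F)⁻¹ ∉ P.B := by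
    intro h
    apply hgB
    have h1 := inv_mem h
    rwa [inv_inv, hPB, Subgroup.mem_subgroupOf] at h1
  have h1 : ((⟨g, hg⟩ : D.group F)⁻¹)⁻¹ * ⟨y, hyG⟩ * (⟨g, hg⟩ : D.group F)⁻¹ ∈ P.B := by
    have e : ((⟨g, hg⟩ : D.group F)⁻¹)⁻¹ * ⟨y, hyG⟩ * (⟨g, hg⟩ : D.group F)⁻¹ = (⟨y, hyG⟩ : D.group F)⁻¹ := by
      rw [inv_inv]
      exact Subtype.ext hgy
    rw [e]
    exact inv_mem hyB
  obtain ⟨s, hs, b, hb, h2⟩ := Cfsg.Agent.H610.RegularBN.exists_adjacent (P := P) hyB h1 hgB'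
  rw [hPS] at hs
  obtain ⟨i, hi, hs⟩ := hs
  have hs' : (s : GL D.Idx F) = nG hD (D.simple i) 1 := (eq_nG_iff hD _ _ _).2 hs
  rw [hPB, Subgroup.mem_subgroupOf] at hb h2
  have h3 := (hy.conj (inv_mem hb)).2 i hi
  rw [inv_inv] at h3
  obtain ⟨t, ht, h4⟩ := h3
  apply ht
  refine comp_eq_zero_of_conj_mem hD hi h4 ?_
  rw [← hs']
  exact h2

theorem inG2 : InList chevG2 := by simp [InList]

theorem simple_G2 : chevG2.simple 0 = 7 ∧ chevG2.simple 1 = 6 ∧ chevG2.rank = 2 ∧ chevG2.IsPosRoot 10 ∧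
    chevG2.IsPosRoot 7 ∧ chevG2.IsPosRoot 6 ∧ 6 < chevG2.nroots ∧ 7 < chevG2.nroots ∧ 10 < chevG2.nroots ∧
    rt chevG2 10 0 = 3 ∧ rt chevG2 10 1 = 1 := by decide +kernel

/-- the regular unipotent element -/
noncomputable def uu (c : F) : GL chevG2.Idx F := xG inG2 7 1 * xG inG2 6 1 * xG inG2 10 c

theorem reg_uu (c : F) : Reg inG2 (uu c) := by
  obtain ⟨s0, s1, hr, p10, p7, p6, -⟩ := simple_G2
  have hm : ∀ r t, chevG2.IsPosRoot r → xG inG2 r t ∈ chevG2.posUnipotent F := fun r t hr =>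
    Subgroup.subset_closure ⟨r, t, hr, coe_xG _ _ _⟩
  refine ⟨mul_mem (mul_mem (hm _ _ p7) (hm _ _ p6)) (hm _ _ p10), fun i hi => ⟨1, one_ne_zero, ?_⟩⟩
  have h0 : (0 : ℕ) < chevG2.rank := by rw [hr]; norm_num
  have h1 : (1 : ℕ) < chevG2.rank := by rw [hr]; norm_num
  rw [hr] at hi
  unfold uu
  interval_cases i
  · have := comp_mul inG2 h0 (comp_mul inG2 h0 (comp_simple inG2 0 (1 : F))
      (comp_simple_ne inG2 h0 h1 (by norm_num) (1 : F))) (comp_root inG2 p10 (by rw [s0]; norm_num) c)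
    rwa [s0, s1, add_zero, add_zero] at this
  · have := comp_mul inG2 h1 (comp_mul inG2 h1 (comp_simple_ne inG2 h1 h0 (by norm_num) (1 : F))
      (comp_simple inG2 1 (1 : F))) (comp_root inG2 p10 (by rw [s1]; norm_num) c)
    rwa [s0, s1, zero_add, add_zero] at this

/-- **A non-real element of `G₂(3^a)`.** -/
theorem nrel_three [Finite F] [CharP F 3] : Cfsg.Agent.H721.SR.NRel ↥(chevG2.group F) := by
  obtain ⟨c, hc⟩ : ∃ c : F, ∀ s : F, s ^ 3 - s ≠ c := by
    by_contra hc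
    push Not at hc
    have hi := Finite.injective_iff_surjective.2 (fun c => hc c : Function.Surjective fun s : F => s ^ 3 - s)
    exact zero_ne_one (hi (by simp))
  obtain ⟨s0, s1, hr, p10, p7, p6, l6, l7, l10, r0, r1⟩ := simple_G2
  have hy := reg_uu (-c)
  have huG : uu (-c) ∈ chevG2.group F := posUnipotent_le_group inG2 F hy.1
  refine ⟨⟨uu (-c), huG⟩, fun hcj => ?_⟩
  obtain ⟨h, hh⟩ := isConj_iff.1 hcj
  have hh' : (h : GL chevG2.Idx F) * uu (-c) * (h : GL chevG2.Idx F)⁻¹ = (uu (-c))⁻¹ := congrArg Subtype.val hh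
  have hB := mem_borel_of_inv inG2 hy h.2 hh'
  obtain ⟨v, hv, d, hd, hvd⟩ := exists_of_mem_borel inG2 hB
  obtain ⟨χ, hχ⟩ := exists_chi inG2 hd
  obtain ⟨s, r, z, w, hq⟩ := exists_q4 hv
  rw [hvd] at hh'
  have e1 : uu (-c) * v * (d * uu (-c) * d⁻¹) = v := by
    have : v * (d * uu (-c) * d⁻¹) * v⁻¹ = (uu (-c))⁻¹ := by
      rw [← hh']
      group
    have h2 : v * (d * uu (-c) * d⁻¹) = (uu (-c))⁻¹ * v := by rw [← this]; group
    rw [mul_assoc, h2]
    group
  have e2 : d * uu (-c) * d⁻¹ = xG inG2 7 (χ 7 * 1) * xG inG2 6 (χ 6 * 1) * xG inG2 10 (χ 10 * -c) := by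
    rw [← hχ.conj 7 l7, ← hχ.conj 6 l6, ← hχ.conj 10 l10, uu]
    group
  rw [e2] at e1
  have e3 := congrArg (fun g : GL chevG2.Idx F => (g : Matrix chevG2.Idx chevG2.Idx F)) e1
  simp only [uu, Units.val_mul, coe_xG] at e3
  have q1 := ((((q4_7 (1 : F)).mul (q4_6 (1 : F))).mul (q4_10 (-c))).mul hq).mul
    (((q4_7 (χ 7 * 1)).mul (q4_6 (χ 6 * 1))).mul (q4_10 (χ 10 * -c)))
  rw [e3] at q1
  obtain ⟨a1, a2, a3, a4⟩ := q1.unique hq
  have hχ10 : χ 10 = χ 7 ^ 3 * χ 6 := by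
    rw [hχ.prod 10 l10, hr, Finset.prod_range_succ, Finset.prod_range_one, s0, s1, r0, r1]
    norm_cast
    rw [pow_one]
  have x7 : χ 7 = -1 := by linear_combination a1
  have x6 : χ 6 = -1 := by linear_combination a2
  rw [hχ10, x7, x6] at a4
  rw [x7, x6] at a3
  refine hc s ?_
  have h3 : (3 : F) = 0 := by exact_mod_cast CharP.cast_eq_zero F 3
  linear_combination a4 + a3 - c * h3

end Cfsg.Agent.H473.SR.Three
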