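import Cfsg.Agent.H473.SR.Oct
import Cfsg.Agent.H473.SR.Three
import Cfsg.Agent.H638.G2Iso

/-!
# The row `G₂(q)` of S4971 / S4970 (helper473)
-/

set_option autoImplicit false

namespace Cfsg.Agent.H473.SR

open Cfsg.Lie Cfsg.Agent.H721.SR

/-- **`G₂(q)` has a non-real element.** -/
theorem nrel_g2 (F : Type*) [Field F] [Finite F] : NRel ↥(chevG2.group F) := by
  by_cases h3 : (3 : F) = 0
  · have hc : CharP F 3 := by
      obtain ⟨p, hc⟩ := CharP.exists F
      have h1 : p ∣ 3 := (CharP.cast_eq_zero_iff F p 3).1 (by exact_mod_cast h3)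
      have h2 : p = 3 := (Nat.prime_dvd_prime_iff_eq (CharP.char_is_prime F p) Nat.prime_three).1 h1
      rwa [h2] at hc
    exact Three.nrel_three
  · obtain ⟨κ, hκ⟩ := Cfsg.Agent.H181.OctHerm.exists_kappa (F := F) h3
    obtain ⟨e⟩ := Cfsg.Agent.H181.OctHerm.nonempty_equiv h3 κ hκ
    obtain ⟨f⟩ := Cfsg.Agent.H638.G2Iso.equiv (F := F)
    exact (nrel_GG h3 hκ).congr (e.symm.trans f)

/-- **S4971 / S4970, the row of `G₂(q)`.** -/
theorem rr_g2 {S : Type*} [Group S] (h : IsoChevG2 S) : RR S := by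
  obtain ⟨F, _, _, -, ⟨e⟩⟩ := h
  exact RR.of_nrel ((nrel_g2 F).congr e.symm)

end Cfsg.Agent.H473.SR
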